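import Groth.Agent.TorsH1.Basic
import Groth.Prelude.Def_CohSite

/-!
`H¹` vanishes iff every torsor has a section.
-/

universe u

open CategoryTheory CategoryTheory.Limits Opposite

set_option backward.isDefEq.respectTransparency false
set_option linter.style.haveILetI false

namespace Groth.Agent.TorsH1

variable {C : Type u} [SmallCategory C] {J : GrothendieckTopology C} {G : Sheaf J AddCommGrpCat.{u}}

section Envelope

variable (T : Tors.Torsor G)

/-- Relations of the extension attached to a torsor. -/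
def rels (U : Cᵒᵖ) : AddSubgroup (G.obj.obj U × FreeAbelianGroup (T.P.obj.obj U)) :=
  AddSubgroup.closure {x | ∃ g p, x = (g, FreeAbelianGroup.of p - FreeAbelianGroup.of (T.vadd g p))}

/-- The restriction maps before passing to the quotient. -/
noncomputable def preMap {U V : Cᵒᵖ} (f : U ⟶ V) :
    G.obj.obj U × FreeAbelianGroup (T.P.obj.obj U) →+ G.obj.obj V × FreeAbelianGroup (T.P.obj.obj V) :=
  (G.obj.map f).hom.prodMap (FreeAbelianGroup.map (T.P.obj.map f))

theorem preMap_rels {U V : Cᵒᵖ} (f : U ⟶ V) : rels T U ≤ (rels T V).comap (preMap T f) := by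
  refine (AddSubgroup.closure_le _).2 ?_
  rintro _ ⟨g, p, rfl⟩
  refine AddSubgroup.subset_closure ⟨G.obj.map f g, T.P.obj.map f p, ?_⟩
  refine Prod.ext rfl ?_
  change FreeAbelianGroup.map (T.P.obj.map f) (FreeAbelianGroup.of p - FreeAbelianGroup.of (T.vadd g p)) = _
  rw [map_sub, FreeAbelianGroup.map_of_apply, FreeAbelianGroup.map_of_apply, T.map_vadd]

/-- The presheaf extension attached to a torsor. -/
noncomputable def ext : Cᵒᵖ ⥤ AddCommGrpCat.{u} where
  obj U := AddCommGrpCat.of ((G.obj.obj U × FreeAbelianGroup (T.P.obj.obj U)) ⧸ rels T U)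
  map f := AddCommGrpCat.ofHom (QuotientAddGroup.map _ _ (preMap T f) (preMap_rels T f))
  map_id U := by
    refine AddCommGrpCat.hom_ext (AddMonoidHom.ext fun x => ?_)
    obtain ⟨⟨g, z⟩, rfl⟩ := QuotientAddGroup.mk_surjective x
    refine congrArg QuotientAddGroup.mk (Prod.ext ?_ ?_)
    · exact congr($(G.obj.map_id U) g)
    · change FreeAbelianGroup.map _ z = z
      rw [show (T.P.obj.map (𝟙 U) : T.P.obj.obj U → _) = id from funext fun p => congr($(T.P.obj.map_id U) p),
        FreeAbelianGroup.map_id_apply]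
  map_comp {U V W} f f' := by
    refine AddCommGrpCat.hom_ext (AddMonoidHom.ext fun x => ?_)
    obtain ⟨⟨g, z⟩, rfl⟩ := QuotientAddGroup.mk_surjective x
    refine congrArg QuotientAddGroup.mk (Prod.ext ?_ ?_)
    · exact congr($(G.obj.map_comp f f') g)
    · change FreeAbelianGroup.map _ z = FreeAbelianGroup.map _ (FreeAbelianGroup.map _ z)
      rw [show (T.P.obj.map (f ≫ f') : T.P.obj.obj U → _) = (T.P.obj.map f' : T.P.obj.obj V → _) ∘ T.P.obj.map f from
        funext fun p => congr($(T.P.obj.map_comp f f') p), FreeAbelianGroup.map_comp_apply]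

/-- The inclusion of the group. -/
noncomputable def extIncl : G.obj ⟶ ext T where
  app U := AddCommGrpCat.ofHom ((QuotientAddGroup.mk' (rels T U)).comp (AddMonoidHom.inl _ _))
  naturality U V f := by
    refine AddCommGrpCat.hom_ext (AddMonoidHom.ext fun g => ?_)
    refine congrArg QuotientAddGroup.mk (Prod.ext rfl ?_)
    exact (map_zero (FreeAbelianGroup.map (T.P.obj.map f))).symm

theorem extIncl_injective (U : Cᵒᵖ) : Function.Injective ((extIncl T).app U) := by
  rw [injective_iff_map_eq_zero]
  intro g hg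
  have hm : ((g, 0) : G.obj.obj U × FreeAbelianGroup (T.P.obj.obj U)) ∈ rels T U :=
    (QuotientAddGroup.eq_zero_iff _).1 hg
  rcases isEmpty_or_nonempty (T.P.obj.obj U) with hE | ⟨⟨p₀⟩⟩
  · have : rels T U = ⊥ := by
      rw [rels, AddSubgroup.closure_eq_bot_iff]
      rintro _ ⟨g, p, rfl⟩
      exact hE.elim p
    rw [this, AddSubgroup.mem_bot] at hm
    exact congrArg Prod.fst hm
  choose d hd hdu using fun p => T.free_transitive p₀ p
  have hadd : ∀ g p, d (T.vadd g p) = g + d p := fun g p =>
    ((hdu (T.vadd g p)) _ (by change T.vadd (g + d p) p₀ = T.vadd g p; rw [T.add_vadd, hd p])).symm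
  let L : G.obj.obj U × FreeAbelianGroup (T.P.obj.obj U) →+ G.obj.obj U :=
    AddMonoidHom.fst _ _ + (FreeAbelianGroup.lift d).comp (AddMonoidHom.snd _ _)
  have hL : rels T U ≤ L.ker := by
    refine (AddSubgroup.closure_le _).2 ?_
    rintro _ ⟨g, p, rfl⟩
    change g + FreeAbelianGroup.lift d (_ - _) = 0
    rw [map_sub, FreeAbelianGroup.lift_apply_of, FreeAbelianGroup.lift_apply_of, hadd]
    abel
  have := hL hm
  change g + FreeAbelianGroup.lift d 0 = 0 at this
  rwa [map_zero, add_zero] at this

/-- An equivariant map of a torsor to an injective sheaf containing the group. -/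
theorem exists_equivariant {I : Sheaf J AddCommGrpCat.{u}} [Injective I] (i : G ⟶ I) :
    ∃ a : ∀ U, T.P.obj.obj U → I.obj.obj U,
      (∀ ⦃U V : Cᵒᵖ⦄ (f : U ⟶ V) p, I.obj.map f (a U p) = a V (T.P.obj.map f p)) ∧
        ∀ U g p, a U (T.vadd g p) = i.hom.app U g + a U p := by
  haveI : Mono (extIncl T) :=
    haveI : ∀ U, Mono ((extIncl T).app U) := fun U => (AddCommGrpCat.mono_iff_injective _).2 (extIncl_injective T U)
    NatTrans.mono_of_mono_app _
  let η := (sheafificationIso G).hom ≫ (presheafToSheaf J AddCommGrpCat.{u}).map (extIncl T)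
  haveI : Mono η := mono_comp _ _
  let r := Injective.factorThru i η
  have hr : η ≫ r = i := Injective.comp_factorThru i η
  let ρ : ext T ⟶ I.obj := toSheafify J (ext T) ≫ r.hom
  have hρ : extIncl T ≫ ρ = i.hom := by
    rw [← hr]
    change extIncl T ≫ toSheafify J (ext T) ≫ r.hom = (toSheafify J G.obj ≫ sheafifyMap J (extIncl T)) ≫ r.hom
    rw [← Category.assoc, toSheafify_naturality]
  refine ⟨fun U p => ρ.app U (QuotientAddGroup.mk ((0 : G.obj.obj U), FreeAbelianGroup.of p)), fun U V f p => ?_,
    fun U g p => ?_⟩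
  · refine (NatTrans.naturality_apply ρ f _).symm.trans (congrArg (ρ.app V) ?_)
    refine congrArg QuotientAddGroup.mk (Prod.ext (map_zero (G.obj.map f).hom) ?_)
    exact FreeAbelianGroup.map_of_apply p
  · have e : ρ.app U (QuotientAddGroup.mk (g, (0 : FreeAbelianGroup (T.P.obj.obj U)))) = i.hom.app U g :=
      congr($(congrArg (fun t => NatTrans.app t U) hρ) g)
    rw [← e, ← map_add]
    refine congrArg (ρ.app U) (Eq.symm ?_)
    refine (QuotientAddGroup.eq (s := rels T U)).2 ?_
    have : ((g, FreeAbelianGroup.of p - FreeAbelianGroup.of (T.vadd g p)) :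
        G.obj.obj U × FreeAbelianGroup (T.P.obj.obj U)) ∈ rels T U :=
      AddSubgroup.subset_closure ⟨g, p, rfl⟩
    convert neg_mem this using 1
    refine Prod.ext ?_ ?_
    · change -(g + (0 : G.obj.obj U)) + 0 = -g
      abel
    · change -((0 : FreeAbelianGroup (T.P.obj.obj U)) + FreeAbelianGroup.of p) + FreeAbelianGroup.of (T.vadd g p) = -(_ - _)
      abel

end Envelope

theorem subsingleton_H1_iff :
    Subsingleton (Sheaf.H.{u} G 1) ↔ ∀ T : Tors.Torsor G, T.HasSection := by
  let S := ShortComplex.mk (Injective.ι G) (cokernel.π (Injective.ι G)) (cokernel.condition _)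
  have hS : S.ShortExact := { exact := ShortComplex.exact_cokernel _ }
  haveI : Injective S.X₂ := inferInstanceAs (Injective (Injective.under G))
  constructor
  · intro hH T
    obtain ⟨a, ha, hav⟩ := exists_equivariant T (I := S.X₂) S.f
    let Q := (sheafCompose J (forget AddCommGrpCat.{u})).obj S.X₃
    have hconst : ∀ U p p', S.g.hom.app U (a U p) = S.g.hom.app U (a U p') := by
      intro U p p'
      obtain ⟨g, rfl, -⟩ := T.free_transitive p p'
      rw [hav, map_add, show S.g.hom.app U (S.f.hom.app U g) = 0 from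
        (show (S.f ≫ S.g).hom.app U g = 0 by rw [S.zero]; rfl), zero_add]
    obtain ⟨q, hq, hqa⟩ := exists_compat Q (fun U z => ∀ ⦃V : Cᵒᵖ⦄ (f : U ⟶ V) p, Q.obj.map f z = S.g.hom.app V (a V p))
      (fun U V f z hz W h p => by
        rw [← FunctorToTypes.map_comp_apply]
        exact hz (f ≫ h) p)
      (fun U z z' hz hz' => by
        induction U using Opposite.rec with
        | op U =>
        obtain ⟨R, hR, hne⟩ := T.locally_nonempty U
        refine ext_of_cover Q hR fun V f hf => ?_
        obtain ⟨p⟩ := hne f hf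
        rw [hz f.op p, hz' f.op p])
      (fun U => by
        obtain ⟨R, hR, hne⟩ := T.locally_nonempty U
        refine ⟨R, hR, fun V f hf => ?_⟩
        obtain ⟨p⟩ := hne f hf
        refine ⟨S.g.hom.app (op V) (a (op V) p), fun W h p' => ?_⟩
        change S.X₃.obj.map h _ = _
        rw [← NatTrans.naturality_apply, ha, hconst W _ p'])
      (fun U R hR z hz W => by
        induction W using Opposite.rec with
        | op W =>
        intro h p
        refine ext_of_cover Q (J.pullback_stable h.unop hR) fun V f hf => ?_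
        have h₁ := hz (f ≫ h.unop) hf (𝟙 (op V)) (T.P.obj.map f.op p)
        rw [FunctorToTypes.map_id_apply] at h₁
        rw [← FunctorToTypes.map_comp_apply]
        refine h₁.trans ?_
        rw [← ha, NatTrans.naturality_apply]
        rfl)
    obtain ⟨c, hc⟩ := exists_hom_of_fam (F := S.X₃) q hq
    have hx : (Abelian.Ext.mk₀ c).comp hS.extClass (zero_add 1) = 0 := hH.elim _ _
    obtain ⟨x₂, hx₂⟩ := Abelian.Ext.covariant_sequence_exact₃ (Z J) hS (Abelian.Ext.mk₀ c) (zero_add 1) hx
    obtain ⟨b, rfl⟩ := (Abelian.Ext.mk₀_bijective _ _).2 x₂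
    rw [Abelian.Ext.mk₀_comp_mk₀] at hx₂
    have hb : b ≫ S.g = c := (Abelian.Ext.mk₀_bijective _ _).1 hx₂
    have hbq : ∀ U, S.g.hom.app U (famOf b U) = q U := fun U => by rw [← famOf_comp, hb, hc]
    refine (hasSection_iff T).2 ?_
    obtain ⟨p, hp, -⟩ := exists_compat T.P (fun U p => a U p = famOf b U)
      (fun U V f p hp => by rw [← ha, hp, famOf_compat])
      (fun U p p' hp hp' => by
        obtain ⟨g, rfl, -⟩ := T.free_transitive p p'
        have h0 : S.f.hom.app U g = 0 := by
          have := hp'.trans hp.symm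
          rwa [hav, add_eq_right] at this
        rw [f_injective hS U (h0.trans (map_zero _).symm), T.zero_vadd])
      (fun U => by
        obtain ⟨R, hR, hne⟩ := T.locally_nonempty U
        refine ⟨R, hR, fun V f hf => ?_⟩
        obtain ⟨p⟩ := hne f hf
        have h₁ := hqa (op V) (𝟙 _) p
        rw [FunctorToTypes.map_id_apply] at h₁
        obtain ⟨g, hg⟩ := exists_of_g_eq_zero hS (op V) (famOf b (op V) - a (op V) p)
          (by rw [map_sub, hbq, h₁, sub_self])
        exact ⟨T.vadd g p, by rw [hav, hg, sub_add_cancel]⟩)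
      (fun U R hR p hp => by
        refine ext_of_cover ((sheafCompose J (forget AddCommGrpCat.{u})).obj S.X₂) hR fun V f hf => ?_
        change S.X₂.obj.map f.op _ = S.X₂.obj.map f.op _
        rw [ha, famOf_compat]
        exact hp f hf)
    exact ⟨p, hp⟩
  · intro hT
    refine subsingleton_of_forall_eq 0 fun x => ?_
    obtain ⟨x₃, rfl⟩ := Abelian.Ext.covariant_sequence_exact₁ (Z J) hS x (Abelian.Ext.eq_zero_of_injective _)
      (zero_add 1)
    obtain ⟨c, rfl⟩ := (Abelian.Ext.mk₀_bijective _ _).2 x₃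
    obtain ⟨p, hp⟩ := (hasSection_iff _).1 (hT (liftsTorsor hS c))
    obtain ⟨b, hb⟩ := exists_hom_of_fam (F := S.X₂) (fun U => (p U).1) fun U V f => congrArg Subtype.val (hp f)
    have hbc : b ≫ S.g = c := hom_ext_fam fun U => by rw [famOf_comp, hb]; exact (p U).2
    rw [← hbc, ← Abelian.Ext.mk₀_comp_mk₀, Abelian.Ext.comp_assoc_of_second_deg_zero,
      hS.comp_extClass, Abelian.Ext.comp_zero]

end Groth.Agent.TorsH1
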