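import Groth.Prelude.Def_Tors
import Mathlib.Algebra.Homology.DerivedCategory.Ext.ExactSequences
import Mathlib.Algebra.Category.Grp.Adjunctions
import Mathlib.GroupTheory.FreeAbelianGroup
import Mathlib.CategoryTheory.Sites.EpiMono
import Mathlib

/-!
Torsors and the first cohomology group.
-/

universe u

open CategoryTheory CategoryTheory.Limits Opposite

set_option backward.isDefEq.respectTransparency false

namespace Groth.Agent.TorsH1

variable {C : Type u} [SmallCategory C] {J : GrothendieckTopology C}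

/-- Families which are compatible with restriction. -/
def Compat (P : Cᵒᵖ ⥤ Type u) (p : ∀ U, P.obj U) : Prop :=
  ∀ ⦃U V : Cᵒᵖ⦄ (f : U ⟶ V), P.map f (p U) = p V

theorem exists_compat (P : Sheaf J (Type u)) (Q : ∀ U, P.obj.obj U → Prop)
    (hres : ∀ ⦃U V : Cᵒᵖ⦄ (f : U ⟶ V) p, Q U p → Q V (P.obj.map f p))
    (huniq : ∀ U p p', Q U p → Q U p' → p = p')
    (hlocal : ∀ U : C, ∃ S ∈ J U, ∀ ⦃V : C⦄ (f : V ⟶ U), S f → ∃ p, Q (op V) p)
    (hglue : ∀ (U : C) (S : Sieve U), S ∈ J U → ∀ p : P.obj.obj (op U),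
      (∀ ⦃V : C⦄ (f : V ⟶ U), S f → Q (op V) (P.obj.map f.op p)) → Q (op U) p) :
    ∃ p : ∀ U, P.obj.obj U, Compat P.obj p ∧ ∀ U, Q U (p U) := by
  have hP := (isSheaf_iff_isSheaf_of_type J P.obj).1 P.property
  have key : ∀ U : Cᵒᵖ, ∃ p, Q U p := by
    intro U
    induction U using Opposite.rec with
    | op U =>
    obtain ⟨S, hS, hSx⟩ := hlocal U
    choose x hx using hSx
    have hc : Presieve.FamilyOfElements.Compatible (P := P.obj) (R := S.arrows) x :=
      fun V₁ V₂ W g₁ g₂ f₁ f₂ h₁ h₂ _ => huniq _ _ _ (hres g₁.op _ (hx f₁ h₁)) (hres g₂.op _ (hx f₂ h₂))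
    refine ⟨(hP S hS).amalgamate x hc, hglue U S hS _ fun V f hf => ?_⟩
    rw [(hP S hS).valid_glue hc f hf]
    exact hx f hf
  choose p hp using key
  exact ⟨p, fun U V f => huniq V _ _ (hres f _ (hp U)) (hp V), hp⟩

/-- Separatedness. -/
theorem ext_of_cover (P : Sheaf J (Type u)) {U : C} {S : Sieve U} (hS : S ∈ J U) {p q : P.obj.obj (op U)}
    (h : ∀ ⦃V : C⦄ (f : V ⟶ U), S f → P.obj.map f.op p = P.obj.map f.op q) : p = q :=
  (((isSheaf_iff_isSheaf_of_type J P.obj).1 P.property) S hS).isSeparatedFor.ext h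

theorem hasSection_iff {G : Sheaf J AddCommGrpCat.{u}} (T : Tors.Torsor G) :
    T.HasSection ↔ ∃ p : ∀ U, T.P.obj.obj U, Compat T.P.obj p := by
  have hu : ∀ U : Cᵒᵖ, Nonempty (Unique ((⊤_ (Sheaf J (Type u))).obj.obj U)) := fun U =>
    ⟨(Types.isTerminalEquivUnique _) (IsTerminal.isTerminalObj
      ((sheafToPresheaf J (Type u)) ⋙ (evaluation Cᵒᵖ (Type u)).obj U) _ terminalIsTerminal)⟩
  constructor
  · rintro ⟨σ⟩
    refine ⟨fun U => σ.hom.app U (hu U).some.default, fun U V f => ?_⟩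
    refine (NatTrans.naturality_apply σ.hom f _).symm.trans (congrArg (σ.hom.app V) ?_)
    exact (hu V).some.uniq _
  · rintro ⟨p, hp⟩
    exact ⟨{ hom :=
      { app := fun U => TypeCat.ofHom fun _ => p U
        naturality := fun U V f => by ext x; exact (hp f).symm } }⟩

variable (J) in
/-- The constant sheaf `ℤ`. -/
noncomputable abbrev Z : Sheaf J AddCommGrpCat.{u} :=
  (constantSheaf J AddCommGrpCat.{u}).obj (AddCommGrpCat.of (ULift.{u} ℤ))

variable {F F' : Sheaf J AddCommGrpCat.{u}}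

/-- The family of a morphism from the constant sheaf. -/
noncomputable def famOf (c : Z J ⟶ F) (U : Cᵒᵖ) : F.obj.obj U :=
  (toSheafify J ((Functor.const Cᵒᵖ).obj (AddCommGrpCat.of (ULift.{u} ℤ))) ≫ c.hom).app U (ULift.up 1)

theorem famOf_compat (c : Z J ⟶ F) ⦃U V : Cᵒᵖ⦄ (f : U ⟶ V) : F.obj.map f (famOf c U) = famOf c V :=
  (NatTrans.naturality_apply
    (toSheafify J ((Functor.const Cᵒᵖ).obj (AddCommGrpCat.of (ULift.{u} ℤ))) ≫ c.hom) f (ULift.up 1)).symm

theorem famOf_comp (c : Z J ⟶ F) (φ : F ⟶ F') (U : Cᵒᵖ) : famOf (c ≫ φ) U = φ.hom.app U (famOf c U) := rfl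

theorem hom_ext_fam {c c' : Z J ⟶ F} (h : ∀ U, famOf c U = famOf c' U) : c = c' := by
  apply Sheaf.hom_ext
  refine sheafify_hom_ext J _ _ F.property (NatTrans.ext (funext fun U => ?_))
  refine AddCommGrpCat.hom_ext (AddMonoidHom.ext fun n => ?_)
  obtain ⟨n⟩ := n
  have : (ULift.up n : ULift.{u} ℤ) = n • ULift.up 1 := ULift.ext _ _ (mul_one n).symm
  rw [show (ULift.up n : ULift.{u} ℤ) = n • ULift.up 1 from this]
  exact (map_zsmul _ n _).trans ((congrArg (n • ·) (h U)).trans (map_zsmul _ n _).symm)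

theorem exists_hom_of_fam (y : ∀ U, F.obj.obj U) (hy : ∀ ⦃U V : Cᵒᵖ⦄ (f : U ⟶ V), F.obj.map f (y U) = y V) :
    ∃ c : Z J ⟶ F, ∀ U, famOf c U = y U := by
  let η : (Functor.const Cᵒᵖ).obj (AddCommGrpCat.of (ULift.{u} ℤ)) ⟶ F.obj :=
    { app := fun U => AddCommGrpCat.ofHom ((zmultiplesHom _ (y U)).comp AddEquiv.ulift.toAddMonoidHom)
      naturality := fun U V f => by
        refine AddCommGrpCat.hom_ext (AddMonoidHom.ext fun n => ?_)
        exact ((map_zsmul (F.obj.map f).hom n.down (y U)).trans (congrArg (n.down • ·) (hy f))).symm }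
  refine ⟨⟨sheafifyLift J η F.property⟩, fun U => ?_⟩
  unfold famOf
  rw [toSheafify_sheafifyLift]
  exact one_zsmul (y U)

section Sequence

variable {S : ShortComplex (Sheaf J AddCommGrpCat.{u})} (hS : S.ShortExact)

include hS in
theorem f_injective (U : Cᵒᵖ) : Function.Injective (S.f.hom.app U) := by
  haveI := hS.mono_f
  haveI : Mono (((sheafToPresheaf J AddCommGrpCat.{u}) ⋙ (evaluation Cᵒᵖ AddCommGrpCat.{u}).obj U).map S.f) :=
    inferInstance
  exact (AddCommGrpCat.mono_iff_injective _).1 this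

include hS in
theorem exists_of_g_eq_zero (U : Cᵒᵖ) (y : S.X₂.obj.obj U) (hy : S.g.hom.app U y = 0) :
    ∃ x, S.f.hom.app U x = y := by
  haveI : PreservesFiniteLimits ((sheafToPresheaf J AddCommGrpCat.{u}) ⋙ (evaluation Cᵒᵖ AddCommGrpCat.{u}).obj U) :=
    inferInstance
  have := hS.exact.map_of_mono_of_preservesKernel
    ((sheafToPresheaf J AddCommGrpCat.{u}) ⋙ (evaluation Cᵒᵖ AddCommGrpCat.{u}).obj U) hS.mono_f inferInstance
  rw [ShortComplex.ab_exact_iff] at this
  exact this y hy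

include hS in
theorem locally_surjective_g (U : C) (z : S.X₃.obj.obj (op U)) :
    ∃ R ∈ J U, ∀ ⦃V : C⦄ (f : V ⟶ U), R f → ∃ y, S.g.hom.app (op V) y = S.X₃.obj.map f.op z := by
  haveI := hS.epi_g
  haveI : Sheaf.IsLocallySurjective S.g := (Sheaf.isLocallySurjective_iff_epi' (φ := S.g)).2 inferInstance
  exact ⟨_, Presheaf.imageSieve_mem J S.g.hom z, fun V f hf => hf⟩

variable (c : Z J ⟶ S.X₃)

/-- The torsor of lifts of a global section of the quotient. -/
noncomputable def liftsPresheaf : Cᵒᵖ ⥤ Type u where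
  obj U := {y : S.X₂.obj.obj U // S.g.hom.app U y = famOf c U}
  map {U V} f := TypeCat.ofHom fun y => ⟨S.X₂.obj.map f y.1, by
    rw [NatTrans.naturality_apply S.g.hom f y.1, y.2, famOf_compat]⟩
  map_id U := by
    ext y
    change S.X₂.obj.map (𝟙 U) y.1 = y.1
    simp
  map_comp f g := by
    ext y
    change S.X₂.obj.map (f ≫ g) y.1 = S.X₂.obj.map g (S.X₂.obj.map f y.1)
    simp

theorem liftsPresheaf_isSheaf : Presheaf.IsSheaf J (liftsPresheaf c) := by
  rw [isSheaf_iff_isSheaf_of_type]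
  intro U R hR
  let Y := (sheafCompose J (forget AddCommGrpCat.{u})).obj S.X₂
  let Q := (sheafCompose J (forget AddCommGrpCat.{u})).obj S.X₃
  have hY := (isSheaf_iff_isSheaf_of_type J Y.obj).1 Y.property
  intro x hx
  have hc : Presieve.FamilyOfElements.Compatible (P := Y.obj) (R := R.arrows) fun V f hf => (x f hf).1 :=
    fun V₁ V₂ W g₁ g₂ f₁ f₂ h₁ h₂ e => congrArg Subtype.val (hx g₁ g₂ h₁ h₂ e)
  have hv : ∀ ⦃V : C⦄ (f : V ⟶ U) (hf : R f), Y.obj.map f.op ((hY R hR).amalgamate _ hc) = (x f hf).1 :=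
    fun V f hf => (hY R hR).valid_glue hc f hf
  refine ⟨⟨(hY R hR).amalgamate _ hc, ?_⟩, fun V f hf => Subtype.ext (hv f hf), fun t ht => Subtype.ext ?_⟩
  · refine ext_of_cover Q hR fun V f hf => ?_
    change S.X₃.obj.map f.op _ = S.X₃.obj.map f.op _
    rw [famOf_compat]
    exact ((NatTrans.naturality_apply S.g.hom f.op _).symm.trans (congrArg (S.g.hom.app (op V)) (hv f hf))).trans
      (x f hf).2
  · exact ext_of_cover Y hR fun V f hf => (congrArg Subtype.val (ht f hf)).trans (hv f hf).symm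

/-- The torsor of lifts. -/
noncomputable def liftsTorsor : Tors.Torsor S.X₁ where
  P := ⟨liftsPresheaf c, liftsPresheaf_isSheaf c⟩
  vadd {U} g y := ⟨S.f.hom.app U g + y.1, by
    have h0 : S.g.hom.app U (S.f.hom.app U g) = 0 :=
      (show (S.f ≫ S.g).hom.app U g = 0 by rw [S.zero]; rfl)
    rw [map_add, h0, zero_add, y.2]⟩
  zero_vadd {U} y := Subtype.ext (by simp)
  add_vadd {U} g h y := Subtype.ext (by simp [add_assoc])
  map_vadd {U V} f g y := Subtype.ext (show S.X₂.obj.map f (S.f.hom.app U g + y.1) =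
      S.f.hom.app V (S.X₁.obj.map f g) + S.X₂.obj.map f y.1 by
    rw [map_add, NatTrans.naturality_apply S.f.hom f g])
  free_transitive {U} p q := by
    obtain ⟨g, hg⟩ := exists_of_g_eq_zero hS U (q.1 - p.1) (by rw [map_sub, q.2, p.2, sub_self])
    refine ⟨g, Subtype.ext (show S.f.hom.app U g + p.1 = q.1 by rw [hg, sub_add_cancel]), fun g' hg' => ?_⟩
    refine f_injective hS U (add_right_cancel (b := p.1) ((congrArg Subtype.val hg').trans ?_))
    rw [hg, sub_add_cancel]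
  locally_nonempty U := by
    obtain ⟨R, hR, h⟩ := locally_surjective_g hS U (famOf c (op U))
    refine ⟨R, hR, fun V f hf => ?_⟩
    obtain ⟨y, hy⟩ := h f hf
    exact ⟨⟨y, hy.trans (famOf_compat c f.op)⟩⟩

end Sequence

end Groth.Agent.TorsH1
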